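import Mathlib
import Groth.Agent.Lib.Helper7.UnramBC.Lift
import Groth.Agent.Lib.Helper6.FlatQ.UOpen

/-! helper7: for a homomorphism of group schemes locally of finite presentation, being unramified
at a point is equivalent to being unramified at the unit point of the fibre (translation
argument using the twist automorphisms of helper6's FlatQ lib and the base-change invariance of
unramifiedness at a point); the locus of points of the base with unramified fibre map is open
(S5316). -/

set_option autoImplicit false
set_option linter.style.haveILetI false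
set_option linter.unusedVariables false
set_option linter.unusedSectionVars false
universe u

noncomputable section

namespace Groth.Agent.Helper7.GrpUnram

open CategoryTheory CategoryTheory.Limits MonoidalCategory CartesianMonoidalCategory MonObj GrpObj
  AlgebraicGeometry
open Groth.Agent.Lib.Helper6.FlatQ
open Groth.Agent.Helper7.UnramBC

variable {S : Scheme.{u}} {G H : Over S} [GrpObj G] [GrpObj H] (u : G ⟶ H) [IsMonHom u]

theorem unramAt_of_iso_conj {X Y : Scheme.{u}} (f : X ⟶ Y) (θ : X ⟶ X) (θ' : Y ⟶ Y) [IsIso θ]
    [IsIso θ'] (h : θ ≫ f = f ≫ θ') (z : X) : UnramAt f (θ z) ↔ UnramAt f z := by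
  rw [← unramAt_comp_left_iff, h, unramAt_comp_right_iff]

/-- `u` is unramified at `t` iff it is unramified at the unit point of the fibre through `t` -/
theorem unramAt_iff_unramAt_unit [LocallyOfFiniteType u.left] (t : G.left) :
    UnramAt u.left t ↔ UnramAt u.left (η[G].left.base ((toUnit G).left.base t)) := by
  have H₀ : IsPullback (snd G G).left (G ◁ u).left u.left (snd G H).left :=
    (isPullback_whiskerLeft_snd u G).map (Over.forget S)
  have i1 : IsIso (twG (𝟙 G)).left := isIso_left _
  have i2 : IsIso (twG (𝟙 G ≫ u)).left := isIso_left _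
  have hθ : (twG (𝟙 G)).left ≫ (G ◁ u).left = (G ◁ u).left ≫ (twG (𝟙 G ≫ u)).left := by
    rw [← Over.comp_left, ← Over.comp_left, whiskerLeft_twG]
  let z : (G ⊗ G).left := (lift (𝟙 G) (toUnit G ≫ η[G])).left.base t
  have h1 := unramAt_iff_of_isPullback H₀ z
  have h2 := unramAt_iff_of_isPullback H₀ ((twG (𝟙 G)).left.base z)
  have h3 := unramAt_of_iso_conj (G ◁ u).left (twG (𝟙 G)).left (twG (𝟙 G ≫ u)).left hθ z
  have e1 : (snd G G).left.base z = η[G].left.base ((toUnit G).left.base t) := by
    change ((lift (𝟙 G) (toUnit G ≫ η[G])) ≫ snd G G).left.base t = _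
    rw [lift_snd]
    rfl
  have e2 : (snd G G).left.base ((twG (𝟙 G)).left.base z) = t := by
    change ((lift (𝟙 G) (toUnit G ≫ η[G])) ≫ twG (𝟙 G) ≫ snd G G).left.base t = t
    have : (lift (𝟙 G) (toUnit G ≫ η[G])) ≫ twG (𝟙 G) ≫ snd G G = 𝟙 G := by
      rw [twG_snd, id_whiskerRight, Category.id_comp]
      exact MonObj.lift_comp_one_right _ _
    rw [this]
    rfl
  rw [e1] at h1
  rw [e2] at h2
  rw [← h2, h3, h1]

theorem isPullback_overPullback_map {T : Scheme.{u}} (f : T ⟶ S) :
    IsPullback (pullback.fst G.hom f) ((Over.pullback f).map u).left u.left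
      (pullback.fst H.hom f) := by
  have hbot : IsPullback (pullback.fst H.hom f) (pullback.snd H.hom f) H.hom f :=
    IsPullback.of_hasPullback H.hom f
  have htop : pullback.fst G.hom f ≫ u.left =
      ((Over.pullback f).map u).left ≫ pullback.fst H.hom f := by
    change _ = pullback.lift (pullback.fst G.hom f ≫ u.left) (pullback.snd G.hom f) _ ≫ _
    rw [pullback.lift_fst]
  have hbig : IsPullback (pullback.fst G.hom f)
      (((Over.pullback f).map u).left ≫ pullback.snd H.hom f) (u.left ≫ H.hom) f := by
    have e1 : ((Over.pullback f).map u).left ≫ pullback.snd H.hom f = pullback.snd G.hom f := by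
      change pullback.lift (pullback.fst G.hom f ≫ u.left) (pullback.snd G.hom f) _ ≫ _ = _
      rw [pullback.lift_snd]
    have e2 : u.left ≫ H.hom = G.hom := Over.w u
    rw [e1, e2]
    exact IsPullback.of_hasPullback G.hom f
  exact IsPullback.of_bot hbig htop hbot

theorem formallyUnramified_overPullback_iff [LocallyOfFiniteType u.left] (s : S) :
    FormallyUnramified ((Over.pullback (S.fromSpecResidueField s)).map u).left ↔
      UnramAt u.left (η[G].left.base (show ↥(𝟙_ (Over S)).left from s)) := by
  have hpb := isPullback_overPullback_map u (S.fromSpecResidueField s)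
  have hη : G.hom.base (η[G].left.base (show ↥(𝟙_ (Over S)).left from s)) = s := by
    have := congrArg (fun φ => φ.base (show ↥(𝟙_ (Over S)).left from s)) (Over.w η[G])
    exact this
  rw [formallyUnramified_iff_forall_unramAt]
  constructor
  · intro h
    obtain ⟨z, hz1, hz2⟩ := Scheme.Pullback.exists_preimage_pullback (f := G.hom)
      (g := S.fromSpecResidueField s) (η[G].left.base (show ↥(𝟙_ (Over S)).left from s))
      (IsLocalRing.closedPoint (S.residueField s))
      (by rw [hη, Scheme.fromSpecResidueField_apply])
    have h1 := (unramAt_iff_of_isPullback hpb z).mp (h z)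
    rwa [hz1] at h1
  · intro h z
    rw [unramAt_iff_of_isPullback hpb z, unramAt_iff_unramAt_unit]
    have e : (toUnit G).left.base ((pullback.fst G.hom (S.fromSpecResidueField s)) z) = s := by
      change G.hom.base ((pullback.fst G.hom (S.fromSpecResidueField s)) z) = s
      have := congrArg (fun φ => φ.base z)
        (pullback.condition (f := G.hom) (g := S.fromSpecResidueField s))
      simp only [Scheme.Hom.comp_base, TopCat.comp_app] at this
      rw [this, Scheme.fromSpecResidueField_apply]
    rw [e]
    exact h

theorem main (S : Scheme.{u}) (G H : Over S) [GrpObj G] [GrpObj H] (u : G ⟶ H)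
    [IsMonHom u] [LocallyOfFinitePresentation u.left] :
    IsOpen {s : S | FormallyUnramified ((Over.pullback (S.fromSpecResidueField s)).map u).left} ∧
    {x : G.left | ∃ W : G.left.Opens, x ∈ W ∧ FormallyUnramified (W.ι ≫ u.left)} =
      G.hom.base ⁻¹' {s : S | FormallyUnramified
        ((Over.pullback (S.fromSpecResidueField s)).map u).left} := by
  haveI : LocallyOfFiniteType u.left := inferInstance
  have hset : {s : S | FormallyUnramified
      ((Over.pullback (S.fromSpecResidueField s)).map u).left} =
      (fun s : S => η[G].left.base (show ↥(𝟙_ (Over S)).left from s)) ⁻¹'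
        {x | UnramAt u.left x} := by
    ext s
    exact formallyUnramified_overPullback_iff u s
  constructor
  · rw [hset]
    exact (isOpen_unramAt u.left).preimage η[G].left.continuous
  · ext x
    simp only [Set.mem_ofPred_eq, Set.mem_preimage]
    rw [exists_open_formallyUnramified_iff, formallyUnramified_overPullback_iff,
      unramAt_iff_unramAt_unit]
    rfl

end Groth.Agent.Helper7.GrpUnram
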