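import Mathlib
import Groth.Prelude.Def_AlgGrp
import Groth.Agent.Lib.Helper7.GrpUnram.Main
import Groth.Agent.Lib.Helper1.UnitSec

/-! helper7: equivalent conditions for a homomorphism of group schemes to be unramified (S5320):
fibrewise, via the kernel, and via the unit section of the kernel being an open immersion (using
helper1's description of the diagonal as a base change of the unit section). -/

set_option autoImplicit false
set_option linter.style.haveILetI false
set_option linter.unusedVariables false
set_option linter.unusedSectionVars false
universe u

noncomputable section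

namespace Groth.Agent.Helper7.GrpUnram

open CategoryTheory CategoryTheory.Limits MonoidalCategory CartesianMonoidalCategory MonObj GrpObj
  AlgebraicGeometry
open Groth.Agent.Lib.Helper6.FlatQ
open Groth.Agent.Helper7.UnramBC

theorem formallyUnramified_iff_isOpenImmersion_unit {S : Scheme.{u}} (G : Over S) [GrpObj G]
    [LocallyOfFiniteType G.hom] : FormallyUnramified G.hom ↔ IsOpenImmersion η[G].left := by
  have hpb := (Groth.Agent.Helper1.UnitSec.isPullback_diag G).map (Over.forget S)
  have hdiag : (Over.forget S).map (lift (𝟙 G) (𝟙 G)) = pullback.diagonal G.hom := by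
    change (lift (𝟙 G) (𝟙 G)).left = _
    rw [Over.lift_left]
    apply pullback.hom_ext
    · rw [pullback.lift_fst, pullback.diagonal_fst]; rfl
    · rw [pullback.lift_snd, pullback.diagonal_snd]; rfl
  rw [hdiag] at hpb
  have hsec : η[G].left ≫ G.hom = 𝟙 S := by
    have := Over.w η[G]
    exact this
  have i1 : IsOpenImmersion (𝟙 S) := inferInstance
  constructor
  · intro h
    haveI : IsOpenImmersion (pullback.diagonal G.hom) := inferInstance
    haveI : MorphismProperty.HasOfPostcompProperty @IsOpenImmersion
        (MorphismProperty.diagonal @IsOpenImmersion) :=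
      MorphismProperty.hasOfPostcompProperty_iff_le_diagonal.mpr le_rfl
    refine MorphismProperty.of_postcomp (W := @IsOpenImmersion)
      (W' := MorphismProperty.diagonal @IsOpenImmersion) η[G].left G.hom ?_ ?_
    · exact (inferInstance : IsOpenImmersion (pullback.diagonal G.hom))
    · rw [hsec]; exact i1
  · intro h
    haveI : IsOpenImmersion (pullback.diagonal G.hom) :=
      MorphismProperty.of_isPullback (P := @IsOpenImmersion) hpb.flip h
    infer_instance

variable {S : Scheme.{u}} {G H : Over S} [GrpObj G] [GrpObj H] (u : G ⟶ H) [IsMonHom u]

theorem formallyUnramified_iff_forall_fibre [LocallyOfFiniteType u.left] :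
    FormallyUnramified u.left ↔
      ∀ s : S, FormallyUnramified ((Over.pullback (S.fromSpecResidueField s)).map u).left := by
  constructor
  · intro h s
    rw [formallyUnramified_overPullback_iff]
    exact (formallyUnramified_iff_forall_unramAt _).mp h _
  · intro h
    rw [formallyUnramified_iff_forall_unramAt]
    intro x
    rw [unramAt_iff_unramAt_unit]
    exact (formallyUnramified_overPullback_iff u _).mp (h ((toUnit G).left.base x))

theorem formallyUnramified_iff_kernel [LocallyOfFiniteType u.left] (K : Over S) (i : K ⟶ G)
    (hK : AlgGrp.IsKernel i u) : FormallyUnramified u.left ↔ FormallyUnramified K.hom := by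
  have hpbK : IsPullback i.left K.hom u.left η[H].left := hK.map (Over.forget S)
  constructor
  · intro h
    exact MorphismProperty.of_isPullback (P := @FormallyUnramified) hpbK h
  · intro h
    rw [formallyUnramified_iff_forall_unramAt]
    intro x
    rw [unramAt_iff_unramAt_unit]
    set s : ↥(𝟙_ (Over S)).left := (toUnit G).left.base x with hs
    have hcomp : u.left.base (η[G].left.base s) = η[H].left.base s := by
      have h1 : η[G] ≫ u = η[H] := IsMonHom.one_hom u
      have := congrArg (fun φ : 𝟙_ (Over S) ⟶ H => φ.left.base s) h1
      exact this
    obtain ⟨k, hk1, hk2⟩ := exists_preimage_of_isPullback hpbK (η[G].left.base s) s hcomp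
    have h2 := (formallyUnramified_iff_forall_unramAt _).mp h k
    have h3 := (unramAt_iff_of_isPullback hpbK k).mp h2
    rwa [hk1] at h3

theorem tfae (S : Scheme.{u}) (G H : Over S) [GrpObj G] [GrpObj H] (u : G ⟶ H) [IsMonHom u]
    [LocallyOfFinitePresentation u.left] (K : Over S) [GrpObj K] (i : K ⟶ G)
    (hK : AlgGrp.IsKernel i u) :
    (FormallyUnramified u.left ↔ ∀ s : S, FormallyUnramified
      ((Over.pullback (S.fromSpecResidueField s)).map u).left) ∧
    (FormallyUnramified u.left ↔ FormallyUnramified K.hom) ∧
    (FormallyUnramified u.left ↔ IsOpenImmersion η[K].left) := by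
  haveI : LocallyOfFiniteType u.left := inferInstance
  have hpbK : IsPullback i.left K.hom u.left η[H].left := hK.map (Over.forget S)
  haveI : LocallyOfFiniteType K.hom :=
    MorphismProperty.of_isPullback (P := @LocallyOfFiniteType) hpbK inferInstance
  refine ⟨formallyUnramified_iff_forall_fibre u, formallyUnramified_iff_kernel u K i hK, ?_⟩
  rw [formallyUnramified_iff_kernel u K i hK]
  exact formallyUnramified_iff_isOpenImmersion_unit K

end Groth.Agent.Helper7.GrpUnram
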